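import Cfsg.Agent.Lib.Recog.SporBound.Sound
import Cfsg.Agent.Lib.Recog.SporBound.SuzA.Tree0
import Cfsg.Agent.Lib.Recog.SporBound.SuzA.Tree1
import Cfsg.Agent.Lib.Recog.SporBound.SuzA.Tree2
import Cfsg.Agent.Lib.Recog.SporBound.SuzA.Tree3

set_option autoImplicit false
set_option maxRecDepth 20000

/-! Generated closure certificate: Suz, <a,b,c,d> over 1 (owner: lead). -/

namespace CfsgLib.Recog.SporBound.SuzA
open CfsgLib.Recog.SporBound

noncomputable def factTree : Q (ℕ) := (.node (.node ft14 ft29 ft44 ft59) (.node ft74 ft89 ft104 ft118) (.node ft133 ft148 ft163 ft177) (.node ft192 ft207 ft222 ft236))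
noncomputable def nodeTree : Q (ℕ) := (.node ct5 ct10 ct15 ct20)
noncomputable def stepTree : Q (List ℕ) := (.node (.node st16 st33 st49 st65) (.node st82 st98 st114 st130) (.node st147 st163 st179 st195) (.node st212 st228 st244 st260))
noncomputable def finalTree : Q (List ℕ) := (.node (.node et9 et19 et28 et37) (.node et47 et57 et66 et75) (.node et85 et95 et104 et113) (.node et123 et132 et141 et150))

/-- The certificate. -/
noncomputable def cert : Cert where
  n := 2160
  nd := 12610
  nf := 28263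
  kl := [0, 1, 2, 3]
  facts := factTree
  cn := nodeTree
  steps := stepTree
  finals := finalTree
  rels := [[0, 0], [1, 1], [2, 2], [3, 3], [0, 1, 0, 1, 0, 1, 0, 1, 0, 1], [0, 2, 0, 2], [0, 3, 0, 3], [1, 2, 1, 2, 1, 2], [1, 3, 1, 3], [2, 3, 2, 3, 2, 3, 2, 3, 2, 3, 2, 3, 2, 3, 2, 3], [0, 3, 2, 3, 2, 3, 2, 3, 2]]
  subs := []

/-- Chains of the traced words. -/
noncomputable def closers : List ℕ := []

end CfsgLib.Recog.SporBound.SuzA
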